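import Groth.Agent.UniPart.MultPart
import Groth.Agent.DSPtsLib.Basic
import Groth.Agent.GrpSchLib.BCPoints
import Groth.Agent.GrpSchLib.IdentityComp
import Groth.Agent.GrpSchLib.MultTypeExtension
import Groth.Agent.GrpSchLib.MultTypeBC
import Groth.Agent.MultTypeQI.Recognize
import Groth.Agent.DescLib.Reduced
import Groth.Agent.SekSuwaLib.CharLift
import Groth.Prelude.Def_SGA3x

/-!
# Homomorphisms from groups of multiplicative type into a commutative affine group factor through its
multiplicative part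
-/

set_option autoImplicit false
set_option linter.style.haveILetI false

universe u

open CategoryTheory CategoryTheory.Limits MonoidalCategory CartesianMonoidalCategory MonObj GrpObj AlgebraicGeometry
open TensorProduct

noncomputable section

namespace Groth.Agent.UniPart

open GrpSchLib GrpSchLib.AffineHopf

set_option backward.isDefEq.respectTransparency false
set_option backward.isDefEq.respectTransparency.types false

/-- A global function vanishing after pullback along jointly surjective flat morphisms is zero. -/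
theorem eq_zero_of_flat_cover {X : Scheme.{u}} (s : Γ(X, ⊤))
    (h : ∀ x : X, ∃ (Y : Scheme.{u}) (q : Y ⟶ X), Flat q ∧ x ∈ Set.range q ∧ q.appTop s = 0) : s = 0 := by
  refine TopCat.Presheaf.section_ext X.sheaf ⊤ s 0 fun x hx => ?_
  obtain ⟨Y, q, _, ⟨y, rfl⟩, hq⟩ := h x
  apply (DescLib.faithfullyFlat_stalkMap q y).injective
  show q.stalkMap y (X.presheaf.germ ⊤ (q y) hx s) = q.stalkMap y (X.presheaf.germ ⊤ (q y) hx 0)
  rw [Scheme.Hom.germ_stalkMap_apply, Scheme.Hom.germ_stalkMap_apply]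
  rw [show q.app ⊤ s = q.appTop s from rfl, hq, map_zero (q.app ⊤).hom]

theorem spIncl_fst {R S A : Type u} [CommRing R] [CommRing S] [CommRing A] [Algebra R S] [HopfAlgebra R A] :
    (bcToSp (R := R) (S := S) (A := A)).left ≫
        Spec.map (CommRingCat.ofHom (Algebra.TensorProduct.includeRight : A →ₐ[R] S ⊗[R] A).toRingHom) =
      pullback.fst _ _ := by
  show (pullbackSymmetry .. ≪≫ pullbackSpecIso' R S A).hom ≫ _ = _
  rw [Iso.trans_hom, Category.assoc]
  refine (congrArg (_ ≫ ·) (pullbackSpecIso_hom_snd R S A)).trans ?_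
  exact pullbackSymmetry_hom_comp_snd _ _

/-- A morphism to an affine scheme killing an ideal factors through the quotient. -/
theorem exists_factor_quotient {A : Type u} [CommRing A] {X : Scheme.{u}} (t : X ⟶ Spec (CommRingCat.of A))
    (I : Ideal A) (h : ∀ a ∈ I, t.appTop ((Scheme.ΓSpecIso (CommRingCat.of A)).inv a) = 0) :
    ∃ t₀ : X ⟶ Spec (CommRingCat.of (A ⧸ I)), t₀ ≫ Spec.map (CommRingCat.ofHom (Ideal.Quotient.mk I)) = t := by
  let ψ : CommRingCat.of A ⟶ Γ(X, ⊤) := (Scheme.ΓSpecIso (CommRingCat.of A)).inv ≫ t.appTop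
  have ht : X.toSpecΓ ≫ Spec.map ψ = t := by
    rw [Spec.map_comp, ← Category.assoc, ← Scheme.toSpecΓ_naturality, Category.assoc,
      ← SpecMap_ΓSpecIso_hom, ← Spec.map_comp, Iso.inv_hom_id, Spec.map_id, Category.comp_id]
  refine ⟨X.toSpecΓ ≫ Spec.map (CommRingCat.ofHom (Ideal.Quotient.lift I ψ.hom fun a ha => h a ha)), ?_⟩
  rw [Category.assoc, ← Spec.map_comp, ← CommRingCat.ofHom_comp, Ideal.Quotient.lift_comp_mk]
  exact ht

variable {k : Type u} [Field k]

/-- A homomorphism from a group of multiplicative type to a commutative affine group factors through the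
multiplicative part. -/
theorem exists_factor_multIdeal {A : Type u} [CommRing A] [HopfAlgebra k A] [Coalgebra.IsCocomm k A]
    {S' : Scheme.{u}} (f : S' ⟶ Spec (CommRingCat.of k)) (H : Over S') [GrpObj H] (hH : SGA3x.IsMultTypeFT H)
    (c : (Over.map f).obj H ⟶ sp k A)
    (hc : ∀ (X : Over S') (a b : X ⟶ H),
      (Over.map f).map (a * b) ≫ c = ((Over.map f).map a ≫ c) * ((Over.map f).map b ≫ c)) :
    ∃ c₀ : (Over.map f).obj H ⟶ sp k (A ⧸ multIdeal k A),
      c₀ ≫ spMap (Ideal.Quotient.mkₐ k (multIdeal k A)) = c := by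
  classical
  obtain ⟨t₀, ht₀⟩ := exists_factor_quotient c.left (multIdeal k A) fun a ha => by
    refine eq_zero_of_flat_cover _ fun x => ?_
    obtain ⟨S'', g, hgflat, hgsurj, -, hloc⟩ := hH
    -- a split piece through the point
    obtain ⟨z, hz⟩ := hgsurj.surj (H.hom x)
    obtain ⟨U, hzU, M, iM, -, ⟨e⟩⟩ := hloc z
    obtain ⟨V, hV, hzV, hVU⟩ := exists_isAffineOpen_mem_and_subset hzU
    let R' : Type u := Γ(S'', V)
    let gV : Spec (CommRingCat.of R') ⟶ S' := hV.fromSpec ≫ g
    letI : Algebra k R' := (Spec.preimage (gV ≫ f)).hom.toAlgebra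
    let b : Spec (CommRingCat.of R') ⟶ Spec (CommRingCat.of k) := Spec.map (CommRingCat.ofHom (algebraMap k R'))
    have hb : b = gV ≫ f := Spec.map_preimage _
    let l : Spec (CommRingCat.of R') ⟶ (U : Scheme.{u}) := hV.isoSpec.inv ≫ S''.homOfLE hVU
    have hl : l ≫ U.ι ≫ g = gV := by
      simp only [l, gV, Category.assoc, Scheme.homOfLE_ι_assoc]
      rw [← IsAffineOpen.isoSpec_inv_ι, Category.assoc]
    obtain ⟨e₁⟩ := MultTypeBC.bc_bc l (U.ι ≫ g) H
    obtain ⟨e₂⟩ := MultTypeBC.bc_congr hl H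
    obtain ⟨e₃⟩ := MultTypeBC.bc_iso l e
    obtain ⟨e₄⟩ := MultTypeBC.bc_DS l M
    obtain ⟨e₅⟩ := nonempty_DS_iso R' M
    let E : Grp.mk (sp R' (MonoidAlgebra R' (Multiplicative M))) ≅ Grp.mk (Red.bc gV H) :=
      e₅ ≪≫ e₄.symm ≪≫ e₃.symm ≪≫ e₁ ≪≫ e₂
    haveI : IsMonHom E.hom.hom.hom := E.hom.hom.isMonHom_hom
    haveI : IsIso E.hom.hom.hom.left :=
      ⟨E.inv.hom.hom.left, congrArg (fun h => h.hom.hom.left) E.hom_inv_id,
        congrArg (fun h => h.hom.hom.left) E.inv_hom_id⟩
    -- the family over the piece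
    let a₀ : (Over.map b).obj (Red.bc gV H) ⟶ sp k A :=
      Over.homMk (pullback.fst H.hom gV ≫ c.left) (by
        show (pullback.fst H.hom gV ≫ c.left) ≫ (sp k A).hom = pullback.snd H.hom gV ≫ b
        rw [Category.assoc, Over.w c, hb]
        exact (Category.assoc _ _ _).symm.trans ((congrArg (· ≫ f) pullback.condition).trans (Category.assoc _ _ _)))
    let U₀ : Red.bc gV H ⟶ Red.bc b (sp k A) := (Over.mapPullbackAdj b).homEquiv _ _ a₀
    have hU₀ : ∀ {X : Over (Spec (CommRingCat.of R'))} (p : X ⟶ Red.bc gV H),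
        DSPtsLib.theta b (p ≫ U₀) = (Over.map b).map p ≫ a₀ := by
      intro X p
      rw [DSPtsLib.theta_comp]
      exact congrArg (_ ≫ ·) (Equiv.symm_apply_apply ((Over.mapPullbackAdj b).homEquiv _ _) a₀)
    have hmul : ∀ {X : Over (Spec (CommRingCat.of R'))} (p q : X ⟶ Red.bc gV H),
        (p * q) ≫ U₀ = (p ≫ U₀) * (q ≫ U₀) := by
      intro X p q
      let j : (Over.map b).obj X ⟶ (Over.map f).obj ((Over.map gV).obj X) :=
        Over.homMk (𝟙 X.left) (by
          show 𝟙 _ ≫ (X.hom ≫ gV) ≫ f = X.hom ≫ b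
          rw [Category.id_comp, hb, Category.assoc])
      have key : ∀ r : X ⟶ Red.bc gV H,
          DSPtsLib.theta b (r ≫ U₀) = j ≫ (Over.map f).map (DSPtsLib.theta gV r) ≫ c := by
        intro r
        rw [hU₀]
        refine Over.OverMorphism.ext ?_
        show r.left ≫ pullback.fst H.hom gV ≫ c.left = 𝟙 _ ≫ (r.left ≫ pullback.fst H.hom gV) ≫ c.left
        rw [Category.id_comp, Category.assoc]
      apply (DSPtsLib.theta_bijective b).1
      rw [DSPtsLib.theta_mul, key, key, key, DSPtsLib.theta_mul, hc, MonObj.comp_mul]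
    haveI : IsMonHom U₀ := SekSuwaLib.CharLift.isMonHom_of_mul U₀ hmul
    obtain ⟨ψ, hψ⟩ := exists_bialgHom (E.hom.hom.hom ≫ U₀ ≫ bcToSp)
    refine ⟨_, E.hom.hom.hom.left ≫ pullback.fst H.hom gV, ?_, ?_, ?_⟩
    · haveI : Flat gV := inferInstance
      infer_instance
    · obtain ⟨p, hp⟩ : z ∈ Set.range hV.fromSpec := by rw [hV.range_fromSpec]; exact hzV
      obtain ⟨w, hw, -⟩ := Scheme.Pullback.exists_preimage_pullback (f := H.hom) (g := gV) x p
        (hz.symm.trans ((congrArg g hp.symm).trans (Scheme.Hom.comp_apply _ _ p).symm))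
      obtain ⟨w', hw'⟩ := E.hom.hom.hom.left.surjective w
      exact ⟨w', (Scheme.Hom.comp_apply _ _ w').trans ((congrArg _ hw').trans hw)⟩
    · have h1 : (E.hom.hom.hom.left ≫ pullback.fst H.hom gV) ≫ c.left =
          Spec.map (CommRingCat.ofHom ((ψ : R' ⊗[k] A →ₐ[R'] MonoidAlgebra R' (Multiplicative M)).toRingHom.comp
            (Algebra.TensorProduct.includeRight : A →ₐ[k] R' ⊗[k] A).toRingHom)) := by
        rw [CommRingCat.ofHom_comp, Spec.map_comp,
          show Spec.map (CommRingCat.ofHom (ψ : R' ⊗[k] A →ₐ[R'] MonoidAlgebra R' (Multiplicative M)).toRingHom) =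
            (spMap (ψ : R' ⊗[k] A →ₐ[R'] MonoidAlgebra R' (Multiplicative M))).left from rfl, ← hψ]
        simp only [Over.comp_left, Category.assoc, spIncl_fst]
        congr 1
        exact (congrArg (fun m => m.left) (Equiv.symm_apply_apply ((Over.mapPullbackAdj b).homEquiv _ _) a₀)).symm
      have h2 := congrArg (fun m => Scheme.Hom.appTop m ((Scheme.ΓSpecIso (CommRingCat.of A)).inv a)) h1
      simp only [Scheme.Hom.comp_appTop, CommRingCat.comp_apply] at h2
      simp only [Scheme.Hom.comp_appTop, CommRingCat.comp_apply]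
      refine h2.trans ?_
      refine (congrArg (fun φ => φ.hom a) (Scheme.ΓSpecIso_inv_naturality (CommRingCat.ofHom
        ((ψ : R' ⊗[k] A →ₐ[R'] MonoidAlgebra R' (Multiplicative M)).toRingHom.comp
          (Algebra.TensorProduct.includeRight : A →ₐ[k] R' ⊗[k] A).toRingHom)))).symm.trans ?_
      show (Scheme.ΓSpecIso (CommRingCat.of (MonoidAlgebra R' (Multiplicative M)))).inv (ψ ((1 : R') ⊗ₜ[k] a)) = 0
      rw [map_one_tmul_eq_zero ψ ha, map_zero]
  refine ⟨Over.homMk t₀ ?_, Over.OverMorphism.ext ht₀⟩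
  have h := Over.w c
  rw [← ht₀, Category.assoc] at h
  rw [← h]
  congr 1
  show Spec.map _ = Spec.map _ ≫ Spec.map _
  rw [← Spec.map_comp]
  rfl

/-- The multiplicative part is of multiplicative type. -/
theorem isMultTypeFT_multPart {A : Type u} [CommRing A] [HopfAlgebra k A] [Coalgebra.IsCocomm k A]
    [Algebra.FiniteType k A] : SGA3x.IsMultTypeFT (sp k (A ⧸ multIdeal k A)) := by
  obtain ⟨K, _, _, _, hd⟩ := isMultTypeConst_multIdeal (k := k) (A := A)
  have hm : SGA3b.IsMultType k (A ⧸ multIdeal k A) :=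
    MultTypeLib.isMultType_of_flatCover (fun _ : PUnit.{u + 1} => K) (fun p hp => by
      obtain ⟨q, hq⟩ := PrimeSpectrum.comap_surjective_of_faithfullyFlat (A := k) (B := K) ⟨p, hp⟩
      exact ⟨⟨⟩, q.asIdeal, q.2, congrArg PrimeSpectrum.asIdeal hq⟩) fun _ => hd
  haveI : Algebra.FiniteType k (A ⧸ multIdeal k A) :=
    Algebra.FiniteType.of_surjective (Ideal.Quotient.mkₐ k _) Ideal.Quotient.mk_surjective
  exact MultTypeQI.isMultTypeFT_of_etale_locally
    (fun s => MultTypeQI.etale_nhd_of_hopf inferInstance hm _ (Iso.refl _) s)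

end Groth.Agent.UniPart
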