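import Groth.Agent.GrpSchLib.HomUnitLocus
import Groth.Agent.GrpSchLib.MultTypeBC
import Groth.Agent.SekSuwaLib.CharLift

/-!
# Families of homomorphisms from a group of multiplicative type over a connected scheme
-/

set_option autoImplicit false
set_option linter.style.haveILetI false

universe u

open CategoryTheory CategoryTheory.Limits MonoidalCategory CartesianMonoidalCategory MonObj AlgebraicGeometry

noncomputable section

namespace Groth.Agent.UniPart

open GrpSchLib

/-- A family of homomorphisms from a group of multiplicative type, parametrised by a connected scheme and trivial at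
a rational point, is trivial. -/
theorem family_eq_one {k : Type u} [Field k] {H G T : Over (Spec (CommRingCat.of k))} [GrpObj H] [GrpObj G]
    [IsSeparated G.hom] [LocallyOfFiniteType G.hom] (hH : SGA3x.IsMultTypeFT H) [ConnectedSpace T.left]
    (F : H ⊗ T ⟶ G)
    (hF : ∀ (X : Over (Spec (CommRingCat.of k))) (x y : X ⟶ H) (t : X ⟶ T),
      lift (x * y) t ≫ F = (lift x t ≫ F) * (lift y t ≫ F))
    (e : 𝟙_ _ ⟶ T) (he : ∀ (X : Over (Spec (CommRingCat.of k))) (x : X ⟶ H), lift x (toUnit X ≫ e) ≫ F = 1) :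
    F = 1 := by
  classical
  let q : ∀ Y : Over T.left, (Over.map T.hom).obj Y ⟶ T := fun Y => Over.homMk Y.hom rfl
  let τ : ∀ {Y : Over T.left}, (Y ⟶ Red.bc T.hom H) → ((Over.map T.hom).obj Y ⟶ G) := fun {Y} b =>
    lift (DSPtsLib.theta T.hom b) (q Y) ≫ F
  let u : Red.bc T.hom H ⟶ Red.bc T.hom G := (Over.mapPullbackAdj T.hom).homEquiv _ _ (τ (𝟙 _))
  have hu : ∀ {Y : Over T.left} (b : Y ⟶ Red.bc T.hom H), DSPtsLib.theta T.hom (b ≫ u) = τ b := by
    intro Y b
    rw [DSPtsLib.theta_comp, show DSPtsLib.theta T.hom u = τ (𝟙 _) from Equiv.symm_apply_apply _ _]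
    have e1 : (Over.map T.hom).map b ≫ DSPtsLib.theta T.hom (𝟙 (Red.bc T.hom H)) = DSPtsLib.theta T.hom b := by
      rw [← DSPtsLib.theta_comp, Category.comp_id]
    have e2 : (Over.map T.hom).map b ≫ q (Red.bc T.hom H) = q Y := Over.OverMorphism.ext (Over.w b)
    simp only [τ]
    rw [comp_lift_assoc, e1, e2]
  haveI : IsMonHom u := SekSuwaLib.CharLift.isMonHom_of_mul u fun {Y} b c => by
    apply (DSPtsLib.theta_bijective T.hom).1
    rw [hu, DSPtsLib.theta_mul, hu, hu]
    simp only [τ, DSPtsLib.theta_mul, hF]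
  haveI : IsSeparated (Red.bc T.hom G).hom := inferInstanceAs (IsSeparated (pullback.snd G.hom T.hom))
  haveI : LocallyOfFiniteType (Red.bc T.hom G).hom :=
    inferInstanceAs (LocallyOfFiniteType (pullback.snd G.hom T.hom))
  obtain ⟨U, hUc, hU, hUT⟩ := HomUnitLocus.main (u := u) (MultTypeBC.isMultTypeFT_bc T.hom hH) (Or.inr inferInstance)
  have heU : e.left (IsLocalRing.closedPoint k) ∈ U := by
    rw [hU]
    refine (HomUnitLocus.triv_iff_of_field (u := u) (e.left : Spec (CommRingCat.of k) ⟶ T.left)).mp ?_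
    intro Y r b
    apply (DSPtsLib.theta_bijective T.hom).1
    rw [hu, HomUnitLocus.theta_one]
    have hq : q Y = toUnit _ ≫ e := Over.OverMorphism.ext (by
      show Y.hom = (toUnit ((Over.map T.hom).obj Y)).left ≫ e.left
      have h1 : r.left ≫ e.left = Y.hom := Over.w r
      rw [← h1]
      congr 1
      have h2 : e.left ≫ T.hom = 𝟙 _ := Over.w e
      calc r.left = r.left ≫ e.left ≫ T.hom := (Eq.trans (congrArg (r.left ≫ ·) h2) (Category.comp_id _)).symm
        _ = Y.hom ≫ T.hom := by rw [← Category.assoc, h1])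
    simp only [τ, hq, he]
  have htop : U = ⊤ := TopologicalSpace.Opens.ext ((IsClopen.eq_univ ⟨hUc, U.2⟩ ⟨_, heU⟩))
  subst htop
  let Y : Over T.left := Over.mk (snd H T).left
  let i : H ⊗ T ⟶ (Over.map T.hom).obj Y := Over.homMk (𝟙 _) ((Category.id_comp _).trans (Over.w (snd H T)))
  let i' : (Over.map T.hom).obj Y ⟶ H ⊗ T := Over.homMk (𝟙 _) ((Category.id_comp _).trans (Over.w (snd H T)).symm)
  obtain ⟨b, hb⟩ := (DSPtsLib.theta_bijective T.hom (Y := Y) (H := H)).2 (i' ≫ fst H T)
  have h1 : b ≫ u = 1 := hUT Y (Over.homMk ((snd H T).left ≫ T.left.topIso.inv) (by simp [Y])) b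
  have h2 := congrArg (DSPtsLib.theta T.hom) h1
  rw [hu, HomUnitLocus.theta_one] at h2
  simp only [τ, hb] at h2
  have hii : i ≫ i' = 𝟙 _ := Over.OverMorphism.ext (Category.id_comp _)
  have hiq : i ≫ q Y = snd H T := Over.OverMorphism.ext (Category.id_comp _)
  have h3 := congrArg (i ≫ ·) h2
  simp only [comp_lift_assoc, reassoc_of% hii, hiq, MonObj.comp_one, lift_fst_snd, Category.id_comp] at h3
  exact h3

end Groth.Agent.UniPart
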