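import Groth.Agent.UniPart.Basic
import Groth.Agent.ComodLib.PrimCriteria
import Mathlib.RingTheory.Artinian.Ring
import Mathlib.FieldTheory.IsAlgClosed.Basic
import Mathlib.RingTheory.Coalgebra.Convolution

/-!
# Cocommutative Hopf algebras over algebraically closed fields

Every element is a combination of group-like elements times elements of the component of the unit; the component of the
unit commutes with extensions of fields.
-/

set_option autoImplicit false

universe u

open TensorProduct WithConv

noncomputable section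

namespace Groth.Agent.UniPart

open Groth.Agent.CoradFil Groth.Agent.ComodLib

section BaseChange

variable {k : Type u} [Field k] {A : Type u} [CommRing A] [Bialgebra k A] (K : Type u) [Field K] [Algebra k K]

variable (A) in
/-- The base change of a wedge power. -/
abbrev WK (r : ℕ) : Submodule K (K ⊗[k] A) := (W k A r).baseChange K

/-- Wedge powers descend along field extensions. -/
theorem wedge_le_baseChange : ∀ (r : ℕ), W K (K ⊗[k] A) r ≤ WK A K r
  | 0 => Submodule.span_le.2 (Set.singleton_subset_iff.2 (Submodule.tmul_mem_baseChange_of_mem _ (one_mem_W 0)))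
  | r + 1 => by
    intro x hx
    let F : A →ₗ[k] (A ⧸ W k A r) ⊗[k] A :=
      (W k A r).mkQ.rTensor A ∘ₗ (Coalgebra.comul (R := k) (A := A) - (TensorProduct.mk k A A).flip 1)
    let Ψ : (K ⊗[k] A) ⊗[K] (K ⊗[k] A) →ₗ[K] K ⊗[k] ((A ⧸ W k A r) ⊗[k] A) :=
      ((W k A r).mkQ.rTensor A).baseChange K ∘ₗ (AlgebraTensorModule.distribBaseChange k K A A).symm.toLinearMap
    have hd : ∀ p q : A, (AlgebraTensorModule.distribBaseChange k K A A).symm
        (((1 : K) ⊗ₜ[k] p) ⊗ₜ[K] ((1 : K) ⊗ₜ[k] q)) = (1 : K) ⊗ₜ[k] (p ⊗ₜ[k] q) := fun p q => by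
      rw [LinearEquiv.symm_apply_eq]
      simp [AlgebraTensorModule.distribBaseChange]
    have hF : ∀ y : K ⊗[k] A, Ψ (Coalgebra.comul (R := K) y - y ⊗ₜ[K] (1 : K ⊗[k] A)) = F.baseChange K y := by
      suffices hl : Ψ ∘ₗ (Coalgebra.comul (R := K) (A := K ⊗[k] A) - (TensorProduct.mk K (K ⊗[k] A) (K ⊗[k] A)).flip 1) =
          F.baseChange K from LinearMap.congr_fun hl
      refine TensorProduct.AlgebraTensorModule.curry_injective (LinearMap.ext_ring (LinearMap.ext fun a => ?_))
      show Ψ (Coalgebra.comul (R := K) ((1 : K) ⊗ₜ[k] a) - ((1 : K) ⊗ₜ[k] a) ⊗ₜ[K] (1 : K ⊗[k] A)) =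
        F.baseChange K ((1 : K) ⊗ₜ[k] a)
      have e1 : (AlgebraTensorModule.distribBaseChange k K A A).symm
            (Coalgebra.comul (R := K) ((1 : K) ⊗ₜ[k] a)) = (1 : K) ⊗ₜ[k] Coalgebra.comul (R := k) a := by
        rw [CoradFil.comul_one_tmul]
        induction Coalgebra.comul (R := k) a using TensorProduct.induction_on with
        | zero => simp
        | add p q hp hq => simp only [map_add, TensorProduct.tmul_add, hp, hq]
        | tmul p q => rw [bcPair_tmul, hd]
      rw [LinearMap.baseChange_tmul, map_sub]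
      simp only [Ψ, F, LinearMap.comp_apply, LinearEquiv.coe_coe, e1, Algebra.TensorProduct.one_def, hd,
        LinearMap.baseChange_tmul, LinearMap.sub_apply, LinearMap.flip_apply, TensorProduct.mk_apply, map_sub,
        TensorProduct.tmul_sub]
    have h0 : ∀ p ∈ WK A K r, ∀ q, Ψ (p ⊗ₜ[K] q) = 0 := by
      intro p hp
      rw [WK, Submodule.baseChange_eq_span] at hp
      induction hp using Submodule.span_induction with
      | mem z hz =>
        obtain ⟨w, hw, rfl⟩ := hz
        intro q
        induction q using TensorProduct.induction_on with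
        | zero => simp
        | add u v hu hv => rw [TensorProduct.tmul_add, map_add, hu, hv, add_zero]
        | tmul c a =>
          rw [show c ⊗ₜ[k] a = c • ((1 : K) ⊗ₜ[k] a) by rw [TensorProduct.smul_tmul', smul_eq_mul, _root_.mul_one],
            TensorProduct.tmul_smul, map_smul]
          simp only [Ψ, LinearMap.comp_apply, LinearEquiv.coe_coe, TensorProduct.mk_apply, hd,
            LinearMap.baseChange_tmul, LinearMap.rTensor_tmul, Submodule.mkQ_apply,
            (Submodule.Quotient.mk_eq_zero (W k A r)).2 hw, TensorProduct.zero_tmul, TensorProduct.tmul_zero, smul_zero]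
      | zero => simp
      | add u v _ _ hu hv => intro q; rw [TensorProduct.add_tmul, map_add, hu, hv, add_zero]
      | smul c u _ hu => intro q; rw [← TensorProduct.smul_tmul', map_smul, hu, smul_zero]
    have hker : F.baseChange K x = 0 := by
      rw [← hF]
      obtain ⟨z, hz⟩ := mem_W_succ.1 hx
      rw [← hz]
      clear hz
      induction z using TensorProduct.induction_on with
      | zero => simp
      | add u v hu hv => rw [map_add, map_add, hu, hv, add_zero]
      | tmul p q => exact h0 _ (wedge_le_baseChange r p.2) q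
    have hex : Function.Exact (W k A (r + 1)).subtype F := fun a => by
      refine ⟨fun h => ⟨⟨a, ?_⟩, rfl⟩, ?_⟩
      · exact mem_W_succ.2 (mem_range_rTensor_of_mkQ _ h)
      · rintro ⟨a, rfl⟩
        obtain ⟨z, hz⟩ := mem_W_succ.1 a.2
        show (W k A r).mkQ.rTensor A (Coalgebra.comul (R := k) a.1 - a.1 ⊗ₜ[k] (1 : A)) = 0
        rw [← hz, ← LinearMap.comp_apply, ← LinearMap.rTensor_comp,
          show (W k A r).mkQ.comp (W k A r).subtype = 0 from
            (LinearMap.exact_subtype_mkQ _).linearMap_comp_eq_zero, LinearMap.rTensor_zero, LinearMap.zero_apply]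
    obtain ⟨y, rfl⟩ := (Module.Flat.lTensor_exact K hex x).1 hker
    clear hker hx
    induction y using TensorProduct.induction_on with
    | zero => simp
    | add u v hu hv => rw [map_add]; exact Submodule.add_mem _ hu hv
    | tmul c w => exact Submodule.tmul_mem_baseChange_of_mem c w.2

end BaseChange

section AlgClosed

variable {K : Type u} [Field K] [IsAlgClosed K] {A : Type u} [CommRing A] [HopfAlgebra K A]
  [Coalgebra.IsCocomm K A]

/-- The action of the functionals. -/
def act (f : WithConv (A →ₗ[K] K)) : A →ₗ[K] A := slice f.ofConv ∘ₗ Coalgebra.comul (R := K) (A := A)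

theorem act_add (f h : WithConv (A →ₗ[K] K)) (x : A) : act (f + h) x = act f x + act h x := slice_add _ _ _

theorem act_smul (c : K) (f : WithConv (A →ₗ[K] K)) (x : A) : act (c • f) x = c • act f x := slice_smul _ _ _

theorem act_one (x : A) : act (K := K) 1 x = x := by
  have h : ∀ z : A ⊗[K] A, slice (1 : WithConv (A →ₗ[K] K)).ofConv z =
      TensorProduct.rid K A ((Coalgebra.counit (R := K) (A := A)).lTensor A z) := fun z => by
    induction z using TensorProduct.induction_on with
    | zero => simp
    | add u v hu hv => simp only [map_add, hu, hv]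
    | tmul u v => simp [LinearMap.convOne_def]
  rw [act, LinearMap.comp_apply, h, Coalgebra.lTensor_counit_comul, TensorProduct.rid_tmul, one_smul]

theorem act_mul (f h : WithConv (A →ₗ[K] K)) (x : A) : act (f * h) x = act f (act h x) := by
  let Φ : A ⊗[K] (A ⊗[K] A) →ₗ[K] A :=
    (TensorProduct.rid K A).toLinearMap ∘ₗ (LinearMap.mul' K K ∘ₗ TensorProduct.map f.ofConv h.ofConv).lTensor A
  have h1 : ∀ z : A ⊗[K] A, slice (f * h).ofConv z = Φ ((Coalgebra.comul (R := K)).lTensor A z) := fun z => by
    induction z using TensorProduct.induction_on with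
    | zero => simp
    | add u v hu hv => simp only [map_add, hu, hv]
    | tmul u v => simp [Φ, LinearMap.convMul_def]
  have h2 : ∀ z : A ⊗[K] A, act f (slice h.ofConv z) =
      Φ (TensorProduct.assoc K A A A ((Coalgebra.comul (R := K)).rTensor A z)) := fun z => by
    induction z using TensorProduct.induction_on with
    | zero => simp
    | add u v hu hv => simp only [map_add, hu, hv]
    | tmul u v =>
      rw [slice_tmul, map_smul, LinearMap.rTensor_tmul]
      simp only [act, LinearMap.comp_apply]
      induction Coalgebra.comul (R := K) u using TensorProduct.induction_on with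
      | zero => simp
      | add p q hp hq => simp only [map_add, TensorProduct.add_tmul, smul_add, hp, hq]
      | tmul p q => simp [Φ, smul_smul, mul_comm]
  show slice (f * h).ofConv (Coalgebra.comul (R := K) x) = act f (slice h.ofConv (Coalgebra.comul (R := K) x))
  rw [h1, h2, Coalgebra.coassoc_apply]

/-- A vector killed by the powers of the kernel of a point of the dual algebra lies in a translate of the component of
the unit. -/
theorem mem_translate {g : A} (hg : IsGroupLikeElem K g) : ∀ (n : ℕ) (z : A),
    (∀ f ∈ (Ideal.span {f : WithConv (A →ₗ[K] K) | f.ofConv g = 0}) ^ n, act f z = 0) →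
      HopfAlgebra.antipode K g * z ∈ W K A n
  | 0, z, h => by
    have := h 1 (by rw [Submodule.pow_zero]; exact Ideal.one_eq_top (R := WithConv (A →ₗ[K] K)) ▸ Submodule.mem_top)
    rw [act_one] at this
    rw [this, mul_zero]
    exact Submodule.zero_mem _
  | n + 1, z, h => by
    set s := HopfAlgebra.antipode K g
    have hs : IsGroupLikeElem K s := hg.antipode
    rw [mem_W_succ]
    refine mem_range_rTensor_of_mkQ _ (eq_zero_of_forall_slice_eq_zero fun φ => ?_)
    let φ' : WithConv (A →ₗ[K] K) := toConv (φ ∘ₗ LinearMap.mulLeft K s)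
    let f : WithConv (A →ₗ[K] K) := φ' - φ 1 • 1
    have hf : f.ofConv g = 0 := by
      simp [f, φ', LinearMap.convOne_def, hg.counit_eq_one, s, hg.antipode_mul_cancel]
    have hsl : ∀ w : A ⊗[K] A, slice φ ((W K A n).mkQ.rTensor A w) = (W K A n).mkQ (slice φ w) := fun w => by
      induction w using TensorProduct.induction_on with
      | zero => simp
      | add u v hu hv => simp only [map_add, hu, hv]
      | tmul u v => simp
    have hmul : slice φ ((s ⊗ₜ[K] s) * Coalgebra.comul (R := K) z) = s * act φ' z := by
      simp only [act, LinearMap.comp_apply]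
      induction Coalgebra.comul (R := K) z using TensorProduct.induction_on with
      | zero => simp
      | add p q hp hq => simp only [mul_add, map_add, hp, hq]
      | tmul p q => simp [φ', Algebra.TensorProduct.tmul_mul_tmul]
    rw [hsl, map_sub, Bialgebra.comul_mul, hs.comul_eq_tmul_self, hmul, slice_tmul,
      show φ 1 • (s * z) = s * act (φ 1 • (1 : WithConv (A →ₗ[K] K))) z by rw [act_smul, act_one, mul_smul_comm], ← mul_sub,
      Submodule.mkQ_apply, Submodule.Quotient.mk_eq_zero]
    have e : act φ' z - act (φ 1 • (1 : WithConv (A →ₗ[K] K))) z = act f z := by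
      rw [← show f + φ 1 • (1 : WithConv (A →ₗ[K] K)) = φ' from sub_add_cancel _ _, act_add, add_sub_cancel_right]
    rw [e]
    refine mem_translate hg n _ fun f' hf' => ?_
    rw [← act_mul]
    exact h _ (by rw [Submodule.pow_succ]; exact Ideal.mul_mem_mul hf' (Ideal.subset_span hf))

set_option maxHeartbeats 1600000 in
set_option synthInstance.maxHeartbeats 400000 in
/-- Every element is a combination of translates of elements of the component of the unit. -/
theorem mem_span_translates (x : A) :
    x ∈ Submodule.span K {y : A | ∃ g b : A, IsGroupLikeElem K g ∧ (∃ r, b ∈ W K A r) ∧ y = g * b} := by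
  classical
  letI : CommRing (WithConv (A →ₗ[K] K)) := inferInstance
  let ev : WithConv (A →ₗ[K] K) →ₗ[K] A := 
    { toFun := fun f => act f x
      map_add' := fun f h => act_add f h x
      map_smul' := fun c f => act_smul c f x }
  let I : Ideal (WithConv (A →ₗ[K] K)) :=
    { carrier := {f | act f x = 0}
      zero_mem' := map_zero ev
      add_mem' := fun {a b} ha hb => (act_add a b x).trans (by rw [ha, hb, add_zero])
      smul_mem' := fun c f (hf : act f x = 0) => by
        show act (c * f) x = 0
        rw [act_mul, hf, map_zero] }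
  haveI : Module.Finite K (LinearMap.range ev) := by
    obtain ⟨S, hS⟩ := TensorProduct.exists_finset (R := K) (Coalgebra.comul (R := K) x)
    haveI := FiniteDimensional.span_of_finite K (S.finite_toSet.image Prod.fst)
    refine Submodule.finiteDimensional_of_le (S₂ := Submodule.span K (Prod.fst '' (S : Set (A × A)))) ?_
    rintro _ ⟨f, rfl⟩
    show slice f.ofConv (Coalgebra.comul (R := K) x) ∈ _
    rw [hS, map_sum]
    exact Submodule.sum_mem _ fun i hi => by
      rw [slice_tmul]; exact Submodule.smul_mem _ _ (Submodule.subset_span ⟨i, hi, rfl⟩)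
  let q : WithConv (A →ₗ[K] K) →ₐ[K] WithConv (A →ₗ[K] K) ⧸ I := Ideal.Quotient.mkₐ K I
  haveI : Module.Finite K ((WithConv (A →ₗ[K] K) ⧸ I)) := by
    let Q : ((WithConv (A →ₗ[K] K) ⧸ I)) →ₗ[K] LinearMap.range ev :=
      { toFun := Quotient.lift (fun f => (⟨ev f, f, rfl⟩ : LinearMap.range ev)) fun a b hab => by
          refine Subtype.ext ?_
          have h : ev (a - b) = 0 := (Submodule.quotientRel_def I).1 hab
          rwa [map_sub, sub_eq_zero] at h
        map_add' := by
          rintro ⟨a⟩ ⟨b⟩; exact Subtype.ext (map_add ev a b)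
        map_smul' := by
          rintro c ⟨a⟩; exact Subtype.ext (map_smul ev c a) }
    refine Module.Finite.of_injective Q ?_
    rintro ⟨a⟩ ⟨b⟩ hab
    refine Ideal.Quotient.eq.2 ?_
    show ev (a - b) = 0
    rw [map_sub, sub_eq_zero]
    exact congrArg Subtype.val hab
  haveI : IsArtinianRing ((WithConv (A →ₗ[K] K) ⧸ I)) := IsArtinianRing.of_finite K ((WithConv (A →ₗ[K] K) ⧸ I))
  haveI : Fintype (MaximalSpectrum ((WithConv (A →ₗ[K] K) ⧸ I))) := Fintype.ofFinite _
  obtain ⟨N, hN⟩ := IsArtinianRing.isNilpotent_jacobson_bot (R := (WithConv (A →ₗ[K] K) ⧸ I))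
  let P : MaximalSpectrum ((WithConv (A →ₗ[K] K) ⧸ I)) → Ideal ((WithConv (A →ₗ[K] K) ⧸ I)) := fun m => m.asIdeal ^ N
  let E : MaximalSpectrum ((WithConv (A →ₗ[K] K) ⧸ I)) → Ideal ((WithConv (A →ₗ[K] K) ⧸ I)) := fun m => ∏ m' ∈ Finset.univ.erase m, P m'
  have hprod : ∀ m, P m * E m = ⊥ := fun m => by
    rw [Finset.mul_prod_erase _ _ (Finset.mem_univ m), Finset.prod_pow, ← le_bot_iff, ← Ideal.zero_eq_bot, ← hN]
    refine Ideal.pow_right_mono (Ideal.prod_le_inf.trans ?_) N
    refine le_sInf fun M hM => ?_
    exact Finset.inf_le (f := fun m : MaximalSpectrum ((WithConv (A →ₗ[K] K) ⧸ I)) => m.asIdeal) (Finset.mem_univ ⟨M, hM.2⟩)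
  have htop : (⨆ m, E m) = ⊤ := by
    by_contra hne
    obtain ⟨M, hM, hle⟩ := Ideal.exists_le_maximal _ hne
    have h1 := (le_iSup E ⟨M, hM⟩).trans hle
    obtain ⟨m', hm', hle'⟩ := (Ideal.IsPrime.prod_le hM.isPrime).1 h1
    exact (Finset.mem_erase.1 hm').1 (MaximalSpectrum.ext (m'.isMaximal.eq_of_le hM.ne_top (hM.isPrime.le_of_pow_le hle')))
  suffices hall : ∀ e ∈ ⨆ m, E m, ∀ f : WithConv (A →ₗ[K] K), q f = e → act f x ∈ Submodule.span K
      {y : A | ∃ g b : A, IsGroupLikeElem K g ∧ (∃ r, b ∈ W K A r) ∧ y = g * b} by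
    have h1 := hall 1 (htop ▸ Submodule.mem_top) 1 (map_one q)
    rwa [act_one] at h1
  intro e he
  induction he using Submodule.iSup_induction' with
  | zero =>
    intro f hf
    rw [show act f x = 0 from Ideal.Quotient.eq_zero_iff_mem.1 hf]
    exact Submodule.zero_mem _
  | add a b _ _ ha hb =>
    intro f hf
    obtain ⟨fa, hfa⟩ := Ideal.Quotient.mkₐ_surjective K I a
    have hfb : q (f - fa) = b := by rw [map_sub, hf, hfa, add_sub_cancel_left]
    rw [← add_sub_cancel fa f, act_add]
    exact Submodule.add_mem _ (ha fa hfa) (hb _ hfb)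
  | mem m e he =>
    intro f hf
    haveI := m.isMaximal
    letI : Field (((WithConv (A →ₗ[K] K) ⧸ I)) ⧸ m.asIdeal) := Ideal.Quotient.field m.asIdeal
    let χ' : K →+* ((WithConv (A →ₗ[K] K) ⧸ I)) ⧸ m.asIdeal := algebraMap K _
    have hb : Function.Bijective χ' := IsAlgClosed.algebraMap_bijective_of_isIntegral
    let χ : WithConv (A →ₗ[K] K) →ₐ[K] K := (AlgEquiv.ofBijective (Algebra.ofId K (((WithConv (A →ₗ[K] K) ⧸ I)) ⧸ m.asIdeal)) hb).symm.toAlgHom.comp
      ((Ideal.Quotient.mkₐ K m.asIdeal).comp q)
    have hχI : ∀ a, act a x = 0 → χ a = 0 := fun a ha => by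
      simp only [χ, AlgHom.comp_apply]
      rw [show q a = 0 from Ideal.Quotient.eq_zero_iff_mem.2 ha, map_zero, map_zero]
    obtain ⟨lam, hlam⟩ : ∃ lam : A →ₗ[K] K, lam ∘ₗ ev = χ.toLinearMap := by
      obtain ⟨π, hπ⟩ := LinearMap.exists_leftInverse_of_injective ((LinearMap.ker ev).liftQ ev le_rfl)
        (Submodule.ker_liftQ_eq_bot _ _ _ le_rfl)
      have hle : LinearMap.ker ev ≤ LinearMap.ker χ.toLinearMap := fun a ha => hχI a ha
      refine ⟨(LinearMap.ker ev).liftQ χ.toLinearMap hle ∘ₗ π, LinearMap.ext fun a => ?_⟩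
      show (LinearMap.ker ev).liftQ χ.toLinearMap hle (π (ev a)) = _
      rw [show π (ev a) = Submodule.Quotient.mk a from LinearMap.congr_fun hπ (Submodule.Quotient.mk a)]
      rfl
    let g : A := TensorProduct.lid K A (lam.rTensor A (Coalgebra.comul (R := K) x))
    have hg : ∀ a : WithConv (A →ₗ[K] K), a.ofConv g = χ a := fun a => by
      rw [show χ a = lam (act a x) from (LinearMap.congr_fun hlam a).symm]
      simp only [g, act, LinearMap.comp_apply]
      induction Coalgebra.comul (R := K) x using TensorProduct.induction_on with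
      | zero => simp
      | add p q hp hq => simp only [map_add, hp, hq]
      | tmul p q => simp [mul_comm]
    have hgl : IsGroupLikeElem K g := by
      constructor
      · have h1 := hg 1
        rw [map_one] at h1
        simpa [LinearMap.convOne_def] using h1
      · refine ext_of_forall_slice_eq fun φ => ?_
        rw [slice_tmul]
        refine sub_eq_zero.1 ((Module.forall_dual_apply_eq_zero_iff K _).1 fun ψ => ?_)
        rw [map_sub, sub_eq_zero]
        have h1 := hg (toConv ψ * toConv φ)
        rw [map_mul, ← hg, ← hg] at h1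
        simp only [LinearMap.convMul_def, ofConv_toConv, LinearMap.comp_apply] at h1
        rw [map_smul, smul_eq_mul, mul_comm, ← h1]
        induction Coalgebra.comul (R := K) g using TensorProduct.induction_on with
        | zero => simp
        | add p q hp hq => simp only [map_add, hp, hq]
        | tmul p q => simp [mul_comm]
    refine Submodule.subset_span ⟨g, HopfAlgebra.antipode K g * act f x, hgl, ⟨N, ?_⟩, by
      rw [← mul_assoc, hgl.mul_antipode_cancel, _root_.one_mul]⟩
    refine mem_translate hgl N _ fun a ha => ?_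
    rw [← act_mul]
    refine Ideal.Quotient.eq_zero_iff_mem.1 (?_ : q (a * f) = 0)
    rw [map_mul, hf, ← Ideal.mem_bot, ← hprod m]
    refine Ideal.mul_mem_mul ?_ he
    have h2 : (Ideal.span {f : WithConv (A →ₗ[K] K) | f.ofConv g = 0}).map q.toRingHom ≤ m.asIdeal := by
      rw [Ideal.map_span, Ideal.span_le]
      rintro _ ⟨b, hb0, rfl⟩
      have h3 : χ b = 0 := (hg b).symm.trans hb0
      simpa [χ, Ideal.Quotient.eq_zero_iff_mem] using h3
    have h4 := Ideal.mem_map_of_mem q.toRingHom ha
    rw [Ideal.map_pow] at h4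
    exact Ideal.pow_right_mono h2 N h4

end AlgClosed

end Groth.Agent.UniPart
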