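import Mathlib.GroupTheory.Nilpotent

/-!
# Iterated commutators and the upper central series
-/

set_option autoImplicit false

universe u v

namespace Groth.Agent.UniPart

open scoped commutatorElement

variable {Γ : Type u} [Group Γ]

/-- The iterated commutator. -/
def iterComm : Γ → List Γ → Γ
  | x, [] => x
  | x, g :: gs => iterComm ⁅x, g⁆ gs

theorem map_iterComm {Δ : Type v} [Group Δ] (f : Γ →* Δ) :
    ∀ (gs : List Γ) (x : Γ), f (iterComm x gs) = iterComm (f x) (gs.map f)
  | [], _ => rfl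
  | g :: gs, x => by rw [iterComm, map_iterComm f gs, map_commutatorElement]; rfl

theorem mem_upperCentralSeries_iff : ∀ (i : ℕ) (x : Γ),
    x ∈ Subgroup.upperCentralSeries Γ i ↔ ∀ gs : List Γ, gs.length = i → iterComm x gs = 1
  | 0, x => by
    rw [Subgroup.upperCentralSeries_zero, Subgroup.mem_bot]
    exact ⟨fun h gs hgs => by rw [List.eq_nil_of_length_eq_zero hgs]; exact h, fun h => h [] rfl⟩
  | i + 1, x => by
    rw [Subgroup.mem_upperCentralSeries_succ_iff]
    constructor
    · rintro h (_ | ⟨g, gs⟩) hgs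
      · simp at hgs
      · exact (mem_upperCentralSeries_iff i _).1 (h g) gs (by simpa using hgs)
    · intro h y
      exact (mem_upperCentralSeries_iff i _).2 fun gs hgs => h (y :: gs) (by simpa using hgs)

theorem iterComm_mem {j : ℕ} : ∀ (gs : List Γ) (x : Γ), x ∈ Subgroup.upperCentralSeries Γ (j + gs.length) →
    iterComm x gs ∈ Subgroup.upperCentralSeries Γ j
  | [], _, h => h
  | g :: gs, x, h => iterComm_mem gs _ (Subgroup.mem_upperCentralSeries_succ_iff.1 h g)

theorem iterComm_mul : ∀ (gs : List Γ) (x y : Γ), x ∈ Subgroup.upperCentralSeries Γ (gs.length + 1) →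
    y ∈ Subgroup.upperCentralSeries Γ (gs.length + 1) → iterComm (x * y) gs = iterComm x gs * iterComm y gs
  | [], _, _, _, _ => rfl
  | g :: gs, x, y, hx, hy => by
    have hxg : ⁅x, g⁆ ∈ Subgroup.upperCentralSeries Γ (gs.length + 1) := Subgroup.mem_upperCentralSeries_succ_iff.1 hx g
    have hyg : ⁅y, g⁆ ∈ Subgroup.upperCentralSeries Γ (gs.length + 1) := Subgroup.mem_upperCentralSeries_succ_iff.1 hy g
    have hw : ⁅x, ⁅y, g⁆⁆ ∈ Subgroup.upperCentralSeries Γ gs.length := by
      rw [← commutatorElement_inv]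
      exact inv_mem (Subgroup.mem_upperCentralSeries_succ_iff.1 hyg x)
    have hw' := (mem_upperCentralSeries_iff gs.length _).1 hw gs rfl
    have hle : ⁅x, ⁅y, g⁆⁆ ∈ Subgroup.upperCentralSeries Γ (gs.length + 1) :=
      Subgroup.upperCentralSeries_mono Γ (Nat.le_succ _) hw
    show iterComm ⁅x * y, g⁆ gs = iterComm ⁅x, g⁆ gs * iterComm ⁅y, g⁆ gs
    rw [show ⁅x * y, g⁆ = ⁅x, ⁅y, g⁆⁆ * ⁅y, g⁆ * ⁅x, g⁆ by simp only [commutatorElement_def]; group,
      iterComm_mul gs _ _ (mul_mem hle hyg) hxg, iterComm_mul gs _ _ hle hyg, hw', one_mul]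
    have hc : iterComm ⁅x, g⁆ gs ∈ Subgroup.center Γ := by
      rw [← Subgroup.upperCentralSeries_one]
      exact iterComm_mem gs _ (by rw [Nat.add_comm]; exact hxg)
    exact Subgroup.mem_center_iff.1 hc _

theorem iterComm_mem_lowerCentralSeries : ∀ (gs : List Γ) (j : ℕ) (x : Γ),
    x ∈ (⊤ : Subgroup Γ).lowerCentralSeries j → iterComm x gs ∈ (⊤ : Subgroup Γ).lowerCentralSeries (j + gs.length)
  | [], _, _, h => h
  | g :: gs, j, x, h => by
    rw [List.length_cons, ← Nat.add_assoc, Nat.add_right_comm]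
    exact iterComm_mem_lowerCentralSeries gs (j + 1) _ (Subgroup.commutator_mem_commutator h (Subgroup.mem_top g))

end Groth.Agent.UniPart
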