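import Groth.Agent.UniPart.Split
import Groth.Agent.S16065
import Groth.Agent.MultTypeLib.HopfKer
import Groth.Agent.ComodLib.PrimCriteria
import Groth.Prelude.Def_SGA3b

/-!
# The multiplicative part of a cocommutative Hopf algebra

The ideal generated by the augmentation ideal of the component of the unit cuts out a group of multiplicative type;
every homomorphism from a split group of multiplicative type, over any algebra, factors through it.
-/

set_option autoImplicit false

universe u

open TensorProduct

noncomputable section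

namespace Groth.Agent.UniPart

open Groth.Agent.CoradFil

variable (k : Type u) [Field k] (A : Type u) [CommRing A] [HopfAlgebra k A] [Coalgebra.IsCocomm k A]

/-- The inclusion of the component of the unit, as a map of bialgebras. -/
def inclU : letI := hopfU k A; U k A →ₐc[k] A :=
  letI := hopfU k A
  BialgHom.ofAlgHom (U k A).val rfl
    (AlgHom.ext fun b => GrpSchLib.HopfTransfer.map_comulRes (U k A).val Subtype.val_injective comul_U b)

/-- The ideal of the multiplicative part. -/
def multIdeal : Ideal A :=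
  letI := hopfU k A
  Ideal.map (inclU k A : U k A →+* A) (RingHom.ker (Bialgebra.counitAlgHom k (U k A)))

instance isHopfIdeal_multIdeal : (multIdeal k A).IsHopfIdeal k :=
  letI := hopfU k A
  MultTypeLib.isHopfIdeal_map_ker (inclU k A)

variable {k A}

theorem sub_counit_mem_multIdeal {b : A} {r : ℕ} (hb : b ∈ W k A r) :
    b - algebraMap k A (Coalgebra.counit (R := k) b) ∈ multIdeal k A := by
  letI := hopfU k A
  let b' : U k A := ⟨b, r, hb⟩
  have h1 : inclU k A (b' - algebraMap k (U k A) (Coalgebra.counit (R := k) b)) =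
      b - algebraMap k A (Coalgebra.counit (R := k) b) := rfl
  rw [← h1]
  show (inclU k A : U k A →+* A) (b' - algebraMap k (U k A) (Coalgebra.counit (R := k) b)) ∈ multIdeal k A
  refine Ideal.mem_map_of_mem (inclU k A : U k A →+* A) ?_
  rw [RingHom.mem_ker, map_sub, AlgHom.commutes, sub_eq_zero]
  rfl

theorem isMultTypeConst_multIdeal : SGA3b.IsMultTypeConst k (A ⧸ multIdeal k A) := by
  classical
  let K := AlgebraicClosure k
  refine ⟨K, inferInstance, inferInstance, inferInstance, S16065.isDiag_of_isDiagonalizable ?_⟩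
  haveI : Coalgebra.IsCocomm K (K ⊗[k] A) := inferInstance
  let π : K ⊗[k] A →ₐc[K] K ⊗[k] (A ⧸ multIdeal k A) :=
    Bialgebra.TensorProduct.map (BialgHom.id K K) (Bialgebra.Quotient.mkBialgHom (R := k) (multIdeal k A))
  have hπ : ∀ (c : K) (a : A), π (c ⊗ₜ[k] a) = c ⊗ₜ[k] Ideal.Quotient.mk (multIdeal k A) a := fun c a => rfl
  show Submodule.span K {g : K ⊗[k] (A ⧸ multIdeal k A) | IsGroupLikeElem K g} = ⊤
  rw [eq_top_iff]
  rintro q -
  obtain ⟨x, rfl⟩ : ∃ x, π x = q := by
    induction q using TensorProduct.induction_on with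
    | zero => exact ⟨0, map_zero π⟩
    | add u v hu hv =>
      obtain ⟨u', rfl⟩ := hu; obtain ⟨v', rfl⟩ := hv
      exact ⟨u' + v', map_add π _ _⟩
    | tmul c a =>
      obtain ⟨a, rfl⟩ := Ideal.Quotient.mk_surjective a
      exact ⟨c ⊗ₜ[k] a, hπ c a⟩
  have hx := mem_span_translates (K := K) x
  induction hx using Submodule.span_induction with
  | mem y hy =>
    obtain ⟨g, b, hg, ⟨r, hb⟩, rfl⟩ := hy
    have hb' := wedge_le_baseChange (A := A) K r hb
    rw [WK, Submodule.baseChange_eq_span] at hb'
    obtain ⟨c, hc⟩ : ∃ c : K, π b = algebraMap K _ c := by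
      clear hb
      induction hb' using Submodule.span_induction with
      | mem z hz =>
        obtain ⟨w, hw, rfl⟩ := hz
        refine ⟨algebraMap k K (Coalgebra.counit (R := k) w), ?_⟩
        rw [TensorProduct.mk_apply, hπ,
          show Ideal.Quotient.mk (multIdeal k A) w =
              algebraMap k (A ⧸ multIdeal k A) (Coalgebra.counit (R := k) w) from
            Ideal.Quotient.eq.2 (sub_counit_mem_multIdeal hw)]
        rw [← IsScalarTower.algebraMap_apply, Algebra.TensorProduct.algebraMap_apply]
        simp [Algebra.algebraMap_eq_smul_one, TensorProduct.smul_tmul]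
      | zero => exact ⟨0, by rw [map_zero, map_zero]⟩
      | add u v _ _ hu hv =>
        obtain ⟨c, hc⟩ := hu; obtain ⟨c', hc'⟩ := hv
        exact ⟨c + c', by rw [map_add, map_add, hc, hc']⟩
      | smul s u _ hu =>
        obtain ⟨c, hc⟩ := hu
        exact ⟨s * c, by
          rw [map_smul, hc, Algebra.algebraMap_eq_smul_one, Algebra.algebraMap_eq_smul_one, mul_smul]⟩
    rw [map_mul, hc, ← Algebra.commutes, ← Algebra.smul_def]
    exact Submodule.smul_mem _ _ (Submodule.subset_span (hg.map π))
  | zero => rw [map_zero]; exact Submodule.zero_mem _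
  | add u v _ _ hu hv => rw [map_add]; exact Submodule.add_mem _ hu hv
  | smul s u _ hu => rw [map_smul]; exact Submodule.smul_mem _ _ hu

omit [Coalgebra.IsCocomm k A] in
/-- A family of homomorphisms from a diagonalisable group is trivial on the component of the unit. -/
theorem map_one_tmul_W {R' : Type u} [CommRing R'] [Algebra k R'] {M : Type*} [CommGroup M]
    (ψ : R' ⊗[k] A →ₐc[R'] MonoidAlgebra R' M) :
    ∀ (r : ℕ) (a : A), a ∈ W k A r → ψ ((1 : R') ⊗ₜ[k] a) = algebraMap R' _ (algebraMap k R' (Coalgebra.counit (R := k) a))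
  | 0, a, h => by
    obtain ⟨c, rfl⟩ := exists_eq_of_mem_zero h
    rw [map_smul, Bialgebra.counit_one, smul_eq_mul, _root_.mul_one, ← TensorProduct.smul_tmul,
      Algebra.smul_def, _root_.mul_one,
      show (algebraMap k R' c) ⊗ₜ[k] (1 : A) = algebraMap R' (R' ⊗[k] A) (algebraMap k R' c) from
        (Algebra.TensorProduct.algebraMap_apply _).symm]
    exact AlgHomClass.commutes ψ _
  | r + 1, a, h => by
    classical
    obtain ⟨z, hz⟩ := mem_W_succ.1 h
    let y := ψ ((1 : R') ⊗ₜ[k] a)
    let Φ : (R' ⊗[k] A) ⊗[R'] (R' ⊗[k] A) →ₗ[R'] MonoidAlgebra R' M ⊗[R'] MonoidAlgebra R' M :=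
      TensorProduct.map (ψ : R' ⊗[k] A →ₗ[R'] MonoidAlgebra R' M) (ψ : R' ⊗[k] A →ₗ[R'] MonoidAlgebra R' M)
    obtain ⟨d, hd⟩ : ∃ d : MonoidAlgebra R' M,
        Φ (bcPair R' ((W k A r).subtype.rTensor A z)) = 1 ⊗ₜ[R'] d := by
      clear hz
      induction z using TensorProduct.induction_on with
      | zero => exact ⟨0, by simp⟩
      | add x x' hx hx' =>
        obtain ⟨d, hd⟩ := hx; obtain ⟨d', hd'⟩ := hx'
        exact ⟨d + d', by simp only [map_add, hd, hd', TensorProduct.tmul_add]⟩
      | tmul x w =>
        refine ⟨algebraMap k R' (Coalgebra.counit (R := k) x.1) • ψ ((1 : R') ⊗ₜ[k] w), ?_⟩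
        rw [LinearMap.rTensor_tmul, Submodule.subtype_apply, bcPair_tmul]
        show ψ ((1 : R') ⊗ₜ[k] x.1) ⊗ₜ[R'] ψ ((1 : R') ⊗ₜ[k] w) = _
        rw [map_one_tmul_W ψ r x.1 x.2, Algebra.algebraMap_eq_smul_one (R := R'), TensorProduct.smul_tmul]
    have hy : Coalgebra.comul (R := R') y = y ⊗ₜ[R'] 1 + 1 ⊗ₜ[R'] d := by
      show Coalgebra.comul (R := R') (ψ ((1 : R') ⊗ₜ[k] a)) = _
      rw [← CoalgHomClass.map_comp_comul_apply ψ, comul_one_tmul, sub_eq_iff_eq_add'.1 hz.symm, map_add, map_add,
        bcPair_tmul]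
      refine congrArg₂ (· + ·) ?_ hd
      show ψ ((1 : R') ⊗ₜ[k] a) ⊗ₜ[R'] ψ (1 : R' ⊗[k] A) = _
      rw [map_one]
    have hsupp : ∀ m : M, m ≠ 1 → y.coeff m = 0 := by
      intro m hm
      let φ : MonoidAlgebra R' M →ₗ[R'] R' :=
        { toFun := fun x => x.coeff m, map_add' := fun _ _ => by simp, map_smul' := fun _ _ => by simp }
      have hΦ : ∀ x, LinearMap.mul' R' R' (TensorProduct.map φ φ (Coalgebra.comul (R := R') x)) = x.coeff m := by
        intro x
        induction x using MonoidAlgebra.induction_linear with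
        | zero => simp
        | add u v hu hv => simp only [map_add, hu, hv, MonoidAlgebra.coeff_add, Finsupp.add_apply]
        | single n s =>
          rw [MonoidAlgebra.comul_single, CommSemiring.comul_apply]
          simp only [TensorProduct.map_tmul, LinearMap.mul'_apply, φ, LinearMap.coe_mk, AddHom.coe_mk,
            MonoidAlgebra.lsingle_apply, MonoidAlgebra.coeff_single, Finsupp.single_apply]
          split <;> simp
      have h1 := hΦ y
      rw [hy, map_add, map_add, TensorProduct.map_tmul, TensorProduct.map_tmul] at h1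
      simp only [LinearMap.mul'_apply, φ, LinearMap.coe_mk, AddHom.coe_mk, MonoidAlgebra.one_def,
        MonoidAlgebra.coeff_single, Finsupp.single_apply, if_neg (Ne.symm hm), mul_zero, zero_mul, add_zero] at h1
      exact h1.symm
    have hy1 : y = algebraMap R' _ (y.coeff 1) := by
      refine MonoidAlgebra.ext (Finsupp.ext fun m => ?_)
      rw [MonoidAlgebra.coe_algebraMap, Function.comp_apply]
      rcases eq_or_ne m 1 with rfl | hm
      · simp
      · simp [hsupp m hm, Ne.symm hm]
    have h3 : y.coeff 1 = algebraMap k R' (Coalgebra.counit (R := k) a) := by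
      have := congrArg (Coalgebra.counit (R := R')) hy1
      rw [Bialgebra.counit_algebraMap, CoalgHomClass.counit_comp_apply, TensorProduct.counit_tmul,
        CommSemiring.counit_apply, ← Algebra.algebraMap_eq_smul_one] at this
      exact this.symm
    rw [← h3]
    exact hy1

/-- A family of homomorphisms from a diagonalisable group factors through the multiplicative part. -/
theorem map_one_tmul_eq_zero {R' : Type u} [CommRing R'] [Algebra k R'] {M : Type*} [CommGroup M]
    (ψ : R' ⊗[k] A →ₐc[R'] MonoidAlgebra R' M) {a : A} (ha : a ∈ multIdeal k A) : ψ ((1 : R') ⊗ₜ[k] a) = 0 := by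
  letI := hopfU k A
  let g : A →+* MonoidAlgebra R' M :=
    (ψ : R' ⊗[k] A →+* MonoidAlgebra R' M).comp (Algebra.TensorProduct.includeRight : A →ₐ[k] R' ⊗[k] A).toRingHom
  suffices h : multIdeal k A ≤ RingHom.ker g from h ha
  refine Ideal.map_le_iff_le_comap.2 fun b hb => ?_
  obtain ⟨r, hr⟩ := b.2
  show ψ ((1 : R') ⊗ₜ[k] b.1) = 0
  rw [map_one_tmul_W ψ r b.1 hr, show Coalgebra.counit (R := k) b.1 = 0 from hb, map_zero, map_zero]

end Groth.Agent.UniPart
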