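import Groth.Agent.CoradFil.BaseChange
import Groth.Agent.ComodLib.Antipode
import Groth.Agent.GrpSchLib.HopfTransfer

/-!
# The connected component of the unit in a cocommutative Hopf algebra

The union of the wedge powers of the scalars is a Hopf subalgebra; it is unipotent.
-/

set_option autoImplicit false

universe u

open TensorProduct

noncomputable section

namespace Groth.Agent.UniPart

open Groth.Agent.CoradFil

variable {k : Type u} [Field k] {A : Type u} [CommRing A]

section Bialg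

variable [Bialgebra k A]

variable (k A) in
/-- The wedge powers of the scalars. -/
abbrev W (r : ℕ) : Submodule k A := wedge (Submodule.span k {(1 : A)}) r

theorem one_mem_W (r : ℕ) : (1 : A) ∈ W k A r :=
  wedge_one_mono (Nat.zero_le r) (Submodule.mem_span_singleton_self _)

theorem exists_eq_of_mem_zero {a : A} (h : a ∈ W k A 0) : ∃ c : k, c • (1 : A) = a :=
  Submodule.mem_span_singleton.1 h

theorem mem_W_succ {r : ℕ} {a : A} :
    a ∈ W k A (r + 1) ↔
      Coalgebra.comul (R := k) a - a ⊗ₜ[k] (1 : A) ∈ LinearMap.range ((W k A r).subtype.rTensor A) := by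
  constructor
  · intro h
    obtain ⟨p, hp, q, ⟨q', rfl⟩, hpq⟩ := Submodule.mem_sup.1 (show Coalgebra.comul (R := k) a ∈
      LinearMap.range ((W k A r).subtype.rTensor A) ⊔
        LinearMap.range ((Submodule.span k {(1 : A)}).subtype.lTensor A) from h)
    obtain ⟨y, hy⟩ : ∃ y, (Submodule.span k {(1 : A)}).subtype.lTensor A q' = y ⊗ₜ[k] (1 : A) := by
      clear hpq
      induction q' using TensorProduct.induction_on with
      | zero => exact ⟨0, by simp⟩
      | tmul x s =>
        obtain ⟨c, hc⟩ := Submodule.mem_span_singleton.1 s.2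
        exact ⟨c • x, by simp [← hc, TensorProduct.smul_tmul]⟩
      | add x z hx hz =>
        obtain ⟨u, hu⟩ := hx; obtain ⟨v, hv⟩ := hz
        exact ⟨u + v, by rw [map_add, hu, hv, TensorProduct.add_tmul]⟩
    rw [hy] at hpq
    obtain ⟨p', rfl⟩ := hp
    have hε : ∀ z : ↥(W k A r) ⊗[k] A, ∃ w ∈ W k A r,
        TensorProduct.rid k A ((Coalgebra.counit (R := k) (A := A)).lTensor A ((W k A r).subtype.rTensor A z)) = w := by
      intro z
      induction z using TensorProduct.induction_on with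
      | zero => exact ⟨0, Submodule.zero_mem _, by simp⟩
      | tmul x b => exact ⟨Coalgebra.counit (R := k) b • x.1, Submodule.smul_mem _ _ x.2, by simp⟩
      | add x z hx hz =>
        obtain ⟨u, hu, eu⟩ := hx; obtain ⟨v, hv, ev⟩ := hz
        exact ⟨u + v, Submodule.add_mem _ hu hv, by rw [map_add, map_add, map_add, eu, ev]⟩
    obtain ⟨w, hw, ew⟩ := hε p'
    have hy' : y = a - w := by
      have := congrArg (fun z => TensorProduct.rid k A ((Coalgebra.counit (R := k) (A := A)).lTensor A z)) hpq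
      simp only [map_add, ew, LinearMap.lTensor_tmul, Bialgebra.counit_one, TensorProduct.rid_tmul, one_smul,
        Coalgebra.lTensor_counit_comul] at this
      rw [← this, add_sub_cancel_left]
    rw [← hpq, hy', TensorProduct.sub_tmul,
      show (W k A r).subtype.rTensor A p' + (a ⊗ₜ[k] (1 : A) - w ⊗ₜ[k] (1 : A)) - a ⊗ₜ[k] (1 : A) =
        (W k A r).subtype.rTensor A p' - w ⊗ₜ[k] (1 : A) by abel]
    exact Submodule.sub_mem _ ⟨p', rfl⟩ ⟨⟨w, hw⟩ ⊗ₜ[k] 1, rfl⟩
  · intro h
    show Coalgebra.comul (R := k) a ∈ LinearMap.range ((W k A r).subtype.rTensor A) ⊔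
      LinearMap.range ((Submodule.span k {(1 : A)}).subtype.lTensor A)
    rw [← sub_add_cancel (Coalgebra.comul (R := k) a) (a ⊗ₜ[k] (1 : A))]
    exact Submodule.add_mem_sup h ⟨a ⊗ₜ[k] ⟨1, Submodule.mem_span_singleton_self _⟩, rfl⟩

theorem comul_mem_W {r : ℕ} {a : A} (h : a ∈ W k A r) :
    Coalgebra.comul (R := k) a ∈ LinearMap.range ((W k A r).subtype.rTensor A) := by
  cases r with
  | zero =>
    obtain ⟨c, rfl⟩ := exists_eq_of_mem_zero h
    refine ⟨⟨c • (1 : A), h⟩ ⊗ₜ[k] 1, ?_⟩
    simp [Algebra.TensorProduct.one_def, TensorProduct.smul_tmul']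
  | succ r =>
    obtain ⟨z, hz⟩ := mem_W_succ.1 h
    refine ⟨(Submodule.inclusion (wedge_one_mono (Nat.le_succ r))).rTensor A z + ⟨a, h⟩ ⊗ₜ[k] 1, ?_⟩
    rw [map_add, ← LinearMap.comp_apply, ← LinearMap.rTensor_comp]
    show (W k A r).subtype.rTensor A z + a ⊗ₜ[k] (1 : A) = _
    rw [hz, sub_add_cancel]

theorem range_mul {U V Z : Submodule k A} (h : ∀ u ∈ U, ∀ v ∈ V, u * v ∈ Z) {x y : A ⊗[k] A}
    (hx : x ∈ LinearMap.range (U.subtype.rTensor A)) (hy : y ∈ LinearMap.range (V.subtype.rTensor A)) :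
    x * y ∈ LinearMap.range (Z.subtype.rTensor A) := by
  obtain ⟨x, rfl⟩ := hx
  obtain ⟨y, rfl⟩ := hy
  induction x using TensorProduct.induction_on with
  | zero => simp
  | add x x' hx hx' => rw [map_add, add_mul]; exact Submodule.add_mem _ hx hx'
  | tmul u p =>
    induction y using TensorProduct.induction_on with
    | zero => simp
    | add y y' hy hy' => rw [map_add, mul_add]; exact Submodule.add_mem _ hy hy'
    | tmul v q => exact ⟨⟨u.1 * v.1, h _ u.2 _ v.2⟩ ⊗ₜ[k] (p * q), by simp⟩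

theorem mul_mem_W : ∀ (n r s : ℕ), r + s ≤ n → ∀ x ∈ W k A r, ∀ y ∈ W k A s, x * y ∈ W k A n := by
  intro n
  induction n with
  | zero =>
    intro r s h x hx y hy
    obtain ⟨rfl, rfl⟩ : r = 0 ∧ s = 0 := by omega
    obtain ⟨c, rfl⟩ := exists_eq_of_mem_zero hx
    rw [smul_mul_assoc, _root_.one_mul]
    exact Submodule.smul_mem _ _ hy
  | succ m ih =>
    intro r s h x hx y hy
    rcases r with _ | r
    · obtain ⟨c, rfl⟩ := exists_eq_of_mem_zero hx
      rw [smul_mul_assoc, _root_.one_mul]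
      exact Submodule.smul_mem _ _ (wedge_one_mono (by omega) hy)
    rcases s with _ | s
    · obtain ⟨c, rfl⟩ := exists_eq_of_mem_zero hy
      rw [mul_smul_comm, _root_.mul_one]
      exact Submodule.smul_mem _ _ (wedge_one_mono (by omega) hx)
    rw [mem_W_succ, Bialgebra.comul_mul]
    have hx' := mem_W_succ.1 hx
    have hy' := mem_W_succ.1 hy
    set dx := Coalgebra.comul (R := k) x - x ⊗ₜ[k] (1 : A)
    set dy := Coalgebra.comul (R := k) y - y ⊗ₜ[k] (1 : A)
    have hX : x ⊗ₜ[k] (1 : A) ∈ LinearMap.range ((W k A (r + 1)).subtype.rTensor A) := ⟨⟨x, hx⟩ ⊗ₜ[k] 1, rfl⟩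
    have hY : y ⊗ₜ[k] (1 : A) ∈ LinearMap.range ((W k A (s + 1)).subtype.rTensor A) := ⟨⟨y, hy⟩ ⊗ₜ[k] 1, rfl⟩
    rw [show Coalgebra.comul (R := k) x * Coalgebra.comul (R := k) y - (x * y) ⊗ₜ[k] (1 : A) =
        dx * dy + dx * (y ⊗ₜ[k] 1) + (x ⊗ₜ[k] 1) * dy by
      rw [show (x * y) ⊗ₜ[k] (1 : A) = (x ⊗ₜ[k] 1) * (y ⊗ₜ[k] 1) by simp]
      simp only [dx, dy]
      ring]
    exact Submodule.add_mem _ (Submodule.add_mem _
      (range_mul (fun u hu v hv => ih r s (by omega) u hu v hv) hx' hy')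
      (range_mul (fun u hu v hv => ih r (s + 1) (by omega) u hu v hv) hx' hY))
      (range_mul (fun u hu v hv => ih (r + 1) s (by omega) u hu v hv) hX hy')

variable (k A) in
/-- The union of the wedge powers of the scalars. -/
def U : Subalgebra k A where
  carrier := {a | ∃ r, a ∈ W k A r}
  mul_mem' := fun ⟨r, hr⟩ ⟨s, hs⟩ => ⟨r + s, mul_mem_W _ r s le_rfl _ hr _ hs⟩
  add_mem' := fun ⟨r, hr⟩ ⟨s, hs⟩ => ⟨max r s, Submodule.add_mem _ (wedge_one_mono (le_max_left _ _) hr)
    (wedge_one_mono (le_max_right _ _) hs)⟩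
  algebraMap_mem' c := ⟨0, by rw [Algebra.algebraMap_eq_smul_one]; exact Submodule.smul_mem _ c (one_mem_W 0)⟩

theorem exists_proj (V : Submodule k A) : ∃ ρ : A →ₗ[k] A, (∀ a, ρ a ∈ V) ∧ ∀ a ∈ V, ρ a = a := by
  obtain ⟨π, hπ⟩ := LinearMap.exists_leftInverse_of_injective V.subtype (Submodule.ker_subtype V)
  exact ⟨V.subtype.comp π, fun a => (π a).2, fun a ha => congrArg Subtype.val (LinearMap.congr_fun hπ ⟨a, ha⟩)⟩

theorem rTensor_proj {V : Submodule k A} {ρ : A →ₗ[k] A} (hρ : ∀ a ∈ V, ρ a = a) {z : A ⊗[k] A}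
    (hz : z ∈ LinearMap.range (V.subtype.rTensor A)) : ρ.rTensor A z = z := by
  obtain ⟨z, rfl⟩ := hz
  rw [← LinearMap.comp_apply, ← LinearMap.rTensor_comp, show ρ.comp V.subtype = V.subtype from
    LinearMap.ext fun v => hρ _ v.2]

theorem comul_U [Coalgebra.IsCocomm k A] (b : U k A) :
    Coalgebra.comul (R := k) ((U k A).val b) ∈ (Algebra.TensorProduct.map (U k A).val (U k A).val).range := by
  obtain ⟨r, hr⟩ := b.2
  obtain ⟨ρ, hρ, hρ'⟩ := exists_proj (W k A r)
  have h1 : ρ.rTensor A (Coalgebra.comul (R := k) b.1) = Coalgebra.comul (R := k) b.1 :=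
    rTensor_proj hρ' (comul_mem_W hr)
  have h2 : ρ.lTensor A (Coalgebra.comul (R := k) b.1) = Coalgebra.comul (R := k) b.1 := by
    have := congrArg (TensorProduct.comm k A A) h1
    rwa [← LinearEquiv.coe_coe, ← LinearMap.comp_apply, ← LinearMap.lTensor_comp_comm, LinearMap.comp_apply,
      LinearEquiv.coe_coe, Coalgebra.comm_comul] at this
  have h3 : ∀ z : A ⊗[k] A, ρ.rTensor A (ρ.lTensor A z) ∈
      (Algebra.TensorProduct.map (U k A).val (U k A).val).range := by
    intro z
    induction z using TensorProduct.induction_on with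
    | zero => simp
    | add x y hx hy => rw [map_add, map_add]; exact add_mem hx hy
    | tmul p q => exact ⟨(⟨ρ p, r, hρ p⟩ : U k A) ⊗ₜ[k] (⟨ρ q, r, hρ q⟩ : U k A), rfl⟩
  show Coalgebra.comul (R := k) b.1 ∈ _
  rw [← h1, ← h2]
  exact h3 _

end Bialg

variable [HopfAlgebra k A] [Coalgebra.IsCocomm k A]

theorem antipode_mem_W : ∀ (r : ℕ) (a : A), a ∈ W k A r → HopfAlgebra.antipode k a ∈ W k A r
  | 0, a, h => by
    obtain ⟨c, rfl⟩ := exists_eq_of_mem_zero h
    rw [map_smul, HopfAlgebra.antipode_one]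
    exact Submodule.smul_mem _ _ (one_mem_W 0)
  | r + 1, a, h => by
    rw [mem_W_succ, ComodLib.comul_antipode, Coalgebra.comm_comul]
    obtain ⟨z, hz⟩ := mem_W_succ.1 h
    rw [show TensorProduct.map (HopfAlgebra.antipode k) (HopfAlgebra.antipode k) (Coalgebra.comul (R := k) a) -
        HopfAlgebra.antipode k a ⊗ₜ[k] (1 : A) = TensorProduct.map (HopfAlgebra.antipode k) (HopfAlgebra.antipode k)
        ((W k A r).subtype.rTensor A z) by
      rw [hz, map_sub, TensorProduct.map_tmul, HopfAlgebra.antipode_one]]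
    clear hz
    induction z using TensorProduct.induction_on with
    | zero => simp
    | add x y hx hy => rw [map_add, map_add]; exact Submodule.add_mem _ hx hy
    | tmul p q => exact ⟨⟨_, antipode_mem_W r p.1 p.2⟩ ⊗ₜ[k] HopfAlgebra.antipode k q, rfl⟩

theorem antipode_U (b : U k A) : HopfAlgebraStruct.antipode (R := k) ((U k A).val b) ∈ (U k A).val.range := by
  obtain ⟨r, hr⟩ := b.2
  exact ⟨⟨_, r, antipode_mem_W r _ hr⟩, rfl⟩

variable (k A) in
/-- The Hopf algebra structure. -/
abbrev hopfU : HopfAlgebra k (U k A) :=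
  GrpSchLib.HopfTransfer.hopf (U k A).val Subtype.val_injective comul_U antipode_U

theorem isUnipotent_U : letI := hopfU k A; HopfRep.IsUnipotent k (U k A) := by
  letI := hopfU k A
  refine isUnipotent_of_exh ?_
  suffices h : ∀ (r : ℕ) (b : U k A), b.1 ∈ W k A r → b ∈ W k (U k A) r from fun b => ⟨_, h _ b b.2.choose_spec⟩
  intro r
  induction r with
  | zero =>
    intro b hb
    obtain ⟨c, hc⟩ := exists_eq_of_mem_zero hb
    exact Submodule.mem_span_singleton.2 ⟨c, Subtype.ext hc⟩
  | succ r ih =>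
    intro b hb
    obtain ⟨ρ, hρ, hρ'⟩ := exists_proj (W k A r)
    let ρU : U k A →ₗ[k] U k A :=
      { toFun := fun x => ⟨ρ x.1, r, hρ _⟩
        map_add' := fun x y => Subtype.ext (map_add ρ _ _)
        map_smul' := fun c x => Subtype.ext (map_smul ρ _ _) }
    rw [mem_W_succ]
    set z := Coalgebra.comul (R := k) b - b ⊗ₜ[k] (1 : U k A) with hz
    have hval : Algebra.TensorProduct.map (U k A).val (U k A).val z =
        Coalgebra.comul (R := k) b.1 - b.1 ⊗ₜ[k] (1 : A) := by
      rw [hz, map_sub, Algebra.TensorProduct.map_tmul]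
      congr 1
      exact GrpSchLib.HopfTransfer.map_comulRes (U k A).val Subtype.val_injective comul_U b
    have hcomm : ∀ w, Algebra.TensorProduct.map (U k A).val (U k A).val (ρU.rTensor (U k A) w) =
        ρ.rTensor A (Algebra.TensorProduct.map (U k A).val (U k A).val w) := fun w => by
      induction w using TensorProduct.induction_on with
      | zero => simp
      | add x y hx hy => simp only [map_add, hx, hy]
      | tmul p q => rfl
    have hfix : ρU.rTensor (U k A) z = z :=
      GrpSchLib.HopfTransfer.map_val_injective (U k A).val (U k A).val Subtype.val_injective Subtype.val_injective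
        (by rw [hcomm, hval]; exact rTensor_proj hρ' (mem_W_succ.1 hb))
    rw [← hfix]
    clear_value z
    clear hfix hval hz
    induction z using TensorProduct.induction_on with
    | zero => simp
    | add x y hx hy => rw [map_add]; exact Submodule.add_mem _ hx hy
    | tmul p q => exact ⟨⟨ρU p, ih _ (hρ _)⟩ ⊗ₜ[k] q, rfl⟩

end Groth.Agent.UniPart
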